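import Mathlib
import Cfsg.Prelude.Def_KGroupFacts

set_option autoImplicit false

/-!
The universal central extension datum `F/[R,F]` of a group `Q` (`F` free on `Q`), the subgroup
`M0 Q = (R ⊓ F')/[R,F]`, and its relation with `Cfsg.HasSchurMultiplier`.
-/

namespace CfsgLib.SchurCover

open scoped commutatorElement

universe u v w

/-- The evaluation `F → Q`. -/
def eval (Q : Type u) [Group Q] : FreeGroup Q →* Q := FreeGroup.lift id

/-- The subgroup `[R, F]` of the free group on `Q`. -/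
def rel (Q : Type u) [Group Q] : Subgroup (FreeGroup Q) := ⁅(eval Q).ker, ⊤⁆

instance relNormal (Q : Type u) [Group Q] : (rel Q).Normal :=
  Subgroup.commutator_normal _ _

/-- The group `F/[R,F]`. -/
abbrev Univ (Q : Type u) [Group Q] : Type u := FreeGroup Q ⧸ rel Q

variable {Q : Type u} [Group Q]

theorem rel_le_ker : rel Q ≤ (eval Q).ker := Subgroup.commutator_le_left _ _

/-- The projection `F/[R,F] → Q`. -/
def proj (Q : Type u) [Group Q] : Univ Q →* Q :=
  QuotientGroup.lift (rel Q) (eval Q) rel_le_ker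

/-- The standard section of `proj`. -/
def sec (q : Q) : Univ Q := (FreeGroup.of q : FreeGroup Q)

@[simp] theorem proj_sec (q : Q) : proj Q (sec q) = q := by
  simp [proj, sec, eval]

theorem proj_surjective : Function.Surjective (proj Q) := fun q => ⟨sec q, proj_sec q⟩

theorem univ_hom_ext {X : Type w} [Monoid X] {f g : Univ Q →* X}
    (h : ∀ q, f (sec q) = g (sec q)) : f = g :=
  QuotientGroup.monoidHom_ext _ (FreeGroup.ext_hom _ _ h)

theorem univ_closure : Subgroup.closure (Set.range (sec : Q → Univ Q)) = ⊤ := by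
  have h1 : (Subgroup.closure (Set.range (FreeGroup.of : Q → FreeGroup Q))).map
      (QuotientGroup.mk' (rel Q)) = ⊤ := by
    rw [FreeGroup.closure_range_of,
      Subgroup.map_top_of_surjective _ (QuotientGroup.mk'_surjective _)]
  rw [MonoidHom.map_closure, ← Set.range_comp] at h1
  exact h1

theorem ker_proj_le_center : (proj Q).ker ≤ Subgroup.center (Univ Q) := by
  intro x hx
  obtain ⟨r, rfl⟩ := QuotientGroup.mk_surjective x
  rw [Subgroup.mem_center_iff]
  intro y
  obtain ⟨f, rfl⟩ := QuotientGroup.mk_surjective y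
  have hr : r ∈ (eval Q).ker := by simpa [proj] using hx
  rw [← QuotientGroup.mk_mul, ← QuotientGroup.mk_mul, QuotientGroup.eq]
  have h2 : ⁅r⁻¹, f⁻¹⁆ ∈ rel Q :=
    Subgroup.commutator_mem_commutator ((eval Q).ker.inv_mem hr) (Subgroup.mem_top _)
  convert h2 using 1
  simp [commutatorElement_def, mul_assoc]

instance kerProjComm : IsMulCommutative (proj Q).ker :=
  ⟨⟨fun a b => Subtype.ext (Subgroup.mem_center_iff.1 (ker_proj_le_center b.2) a)⟩⟩

/-- `(R ⊓ F')/[R,F]`, the Schur multiplier. -/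
def M0 (Q : Type u) [Group Q] : Subgroup (Univ Q) := (proj Q).ker ⊓ commutator (Univ Q)

theorem mem_M0 {x : Univ Q} : x ∈ M0 Q ↔ proj Q x = 1 ∧ x ∈ commutator (Univ Q) :=
  Iff.rfl

theorem M0_le_center : M0 Q ≤ Subgroup.center (Univ Q) := inf_le_left.trans ker_proj_le_center

instance M0Comm : IsMulCommutative (M0 Q) :=
  ⟨⟨fun a b => Subtype.ext (Subgroup.mem_center_iff.1 (M0_le_center b.2) a)⟩⟩

noncomputable instance M0CommGroup : CommGroup (M0 Q) :=
  { (inferInstance : Group (M0 Q)) with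
    mul_comm := fun a b => Subtype.ext (Subgroup.mem_center_iff.1 (M0_le_center b.2) a) }

/-- Commutators depend only on the images modulo a central kernel. -/
theorem commutatorElement_eq_of_eq {X : Type v} {Y : Type w} [Group X] [Group Y] (σ : X →* Y)
    (hc : σ.ker ≤ Subgroup.center X) {a a' b b' : X} (ha : σ a = σ a') (hb : σ b = σ b') :
    ⁅a, b⁆ = ⁅a', b'⁆ := by
  obtain ⟨z, hz, rfl⟩ : ∃ z ∈ Subgroup.center X, a = z * a' :=
    ⟨a * a'⁻¹, hc (by simp [MonoidHom.mem_ker, ha]), by simp⟩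
  obtain ⟨w, hw, rfl⟩ : ∃ w ∈ Subgroup.center X, b = w * b' :=
    ⟨b * b'⁻¹, hc (by simp [MonoidHom.mem_ker, hb]), by simp⟩
  simp only [commutatorElement_def, mul_inv_rev]
  have hz' : ∀ x, z * x = x * z := fun x => (Subgroup.mem_center_iff.1 hz x).symm
  have hw' : ∀ x, w * x = x * w := fun x => (Subgroup.mem_center_iff.1 hw x).symm
  have h1 : z * a' * (w * b') * (a'⁻¹ * z⁻¹) = a' * (w * b') * a'⁻¹ :=
    calc z * a' * (w * b') * (a'⁻¹ * z⁻¹) = z * (a' * (w * b') * a'⁻¹) * z⁻¹ := by group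
      _ = _ := by rw [hz', mul_inv_cancel_right]
  rw [h1]
  calc a' * (w * b') * a'⁻¹ * (b'⁻¹ * w⁻¹)
      = a' * w * (b' * a'⁻¹ * b'⁻¹) * w⁻¹ := by group
    _ = w * (a' * b' * a'⁻¹ * b'⁻¹) * w⁻¹ := by rw [← hw' a']; group
    _ = _ := by rw [hw', mul_inv_cancel_right]

/-- Two homomorphisms agreeing modulo a central kernel agree on the commutator subgroup. -/
theorem eq_on_commutator {X : Type v} {Γ : Type w} {Y : Type*} [Group X] [Group Γ] [Group Y]
    (σ : Γ →* Y) (hc : σ.ker ≤ Subgroup.center Γ) {f g : X →* Γ}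
    (h : ∀ x, σ (f x) = σ (g x)) {x : X} (hx : x ∈ commutator X) : f x = g x := by
  have : commutator X ≤ MonoidHom.eqLocus f g := by
    rw [commutator_eq_closure, Subgroup.closure_le]
    rintro _ ⟨a, b, rfl⟩
    show f ⁅a, b⁆ = g ⁅a, b⁆
    rw [map_commutatorElement, map_commutatorElement]
    exact commutatorElement_eq_of_eq σ hc (h a) (h b)
  exact this hx

/-- A homomorphism out of `F/[R,F]` covering `γ : Q →* Y`. -/
theorem exists_hom {Γ : Type v} {Y : Type w} [Group Γ] [Group Y] (σ : Γ →* Y)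
    (hc : σ.ker ≤ Subgroup.center Γ) (γ : Q →* Y) (s : Q → Γ) (hs : ∀ q, σ (s q) = γ q) :
    ∃ f : Univ Q →* Γ, σ.comp f = γ.comp (proj Q) ∧ ∀ q, f (sec q) = s q := by
  let f₀ : FreeGroup Q →* Γ := FreeGroup.lift s
  have h₀ : σ.comp f₀ = γ.comp (eval Q) := FreeGroup.ext_hom _ _ fun q => by
    simp [f₀, eval, hs]
  have hk : rel Q ≤ f₀.ker := by
    rw [rel, Subgroup.commutator_le]
    intro r hr x _
    have : f₀ r ∈ σ.ker := by
      have := DFunLike.congr_fun h₀ r
      simpa [MonoidHom.mem_ker.1 hr, MonoidHom.mem_ker] using this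
    rw [MonoidHom.mem_ker, map_commutatorElement, commutatorElement_eq_one_iff_mul_comm]
    exact (Subgroup.mem_center_iff.1 (hc this) _).symm
  refine ⟨QuotientGroup.lift (rel Q) f₀ hk, univ_hom_ext fun q => ?_, fun q => ?_⟩
  · simp [sec, proj, f₀, eval, hs]
  · simp [sec, f₀]

theorem exists_hom_surj {Γ : Type v} {Y : Type w} [Group Γ] [Group Y] (σ : Γ →* Y)
    (hs : Function.Surjective σ) (hc : σ.ker ≤ Subgroup.center Γ) (γ : Q →* Y) :
    ∃ f : Univ Q →* Γ, σ.comp f = γ.comp (proj Q) := by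
  choose s hs' using fun q => hs (γ q)
  obtain ⟨f, hf, -⟩ := exists_hom σ hc γ s hs'
  exact ⟨f, hf⟩

theorem exists_lift {Γ : Type v} [Group Γ] (σ : Γ →* Q) (hs : Function.Surjective σ)
    (hc : σ.ker ≤ Subgroup.center Γ) : ∃ f : Univ Q →* Γ, σ.comp f = proj Q :=
  exists_hom_surj σ hs hc (MonoidHom.id Q)

/-- A lift into a central extension reaches the commutator subgroup. -/
theorem commutator_le_map {X : Type v} {Γ : Type w} {Y : Type*} [Group X] [Group Γ] [Group Y]
    (σ : Γ →* Y) (hc : σ.ker ≤ Subgroup.center Γ) (f : X →* Γ)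
    (h : ∀ g, ∃ x, σ (f x) = σ g) : commutator Γ ≤ (commutator X).map f := by
  rw [commutator_eq_closure, Subgroup.closure_le]
  rintro _ ⟨a, b, rfl⟩
  obtain ⟨x, hx⟩ := h a
  obtain ⟨y, hy⟩ := h b
  refine ⟨⁅x, y⁆, Subgroup.commutator_mem_commutator (Subgroup.mem_top _) (Subgroup.mem_top _), ?_⟩
  rw [map_commutatorElement]
  exact commutatorElement_eq_of_eq σ hc hx hy

theorem stem_lift_surjective {Γ : Type v} {X : Type w} [Group Γ] [Group X] (σ : Γ →* Q)
    (hσ : Cfsg.IsStemExtension σ) (f : X →* Γ) (hf : Function.Surjective (σ.comp f)) :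
    Function.Surjective f := by
  intro g
  obtain ⟨x, hx⟩ := hf (σ g)
  have h1 : (f x)⁻¹ * g ∈ σ.ker := by
    rw [MonoidHom.comp_apply] at hx
    simp [MonoidHom.mem_ker, hx]
  obtain ⟨y, -, hy⟩ := commutator_le_map σ hσ.2.1 f (fun g => hf (σ g)) (hσ.2.2 h1)
  exact ⟨x * y, by simp [hy]⟩

theorem stem_lift_M0 {Γ : Type v} [Group Γ] (σ : Γ →* Q) (hσ : Cfsg.IsStemExtension σ)
    (f : Univ Q →* Γ) (hf : σ.comp f = proj Q) : (M0 Q).map f = σ.ker := by
  refine le_antisymm ?_ fun z hz => ?_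
  · rintro _ ⟨x, hx, rfl⟩
    rw [MonoidHom.mem_ker, ← MonoidHom.comp_apply, hf]
    exact hx.1
  · obtain ⟨w, hw, rfl⟩ := commutator_le_map σ hσ.2.1 f
      (fun g => ⟨sec (σ g), by rw [← MonoidHom.comp_apply, hf, proj_sec]⟩) (hσ.2.2 hz)
    refine ⟨w, ⟨?_, hw⟩, rfl⟩
    show proj Q w = 1
    rw [← hf]
    exact hz

/-- The map `M0 Q → ker σ` induced by a lift. -/
def kerMap {Γ : Type v} [Group Γ] (σ : Γ →* Q) (f : Univ Q →* Γ) (hf : σ.comp f = proj Q) :
    M0 Q →* σ.ker :=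
  (f.comp (M0 Q).subtype).codRestrict σ.ker fun x => by
    rw [MonoidHom.mem_ker, MonoidHom.comp_apply, ← MonoidHom.comp_apply, hf]
    exact x.2.1

theorem kerMap_surjective {Γ : Type v} [Group Γ] (σ : Γ →* Q) (hσ : Cfsg.IsStemExtension σ)
    (f : Univ Q →* Γ) (hf : σ.comp f = proj Q) : Function.Surjective (kerMap σ f hf) := by
  rintro ⟨z, hz⟩
  rw [← stem_lift_M0 σ hσ f hf] at hz
  obtain ⟨x, hx, hxz⟩ := hz
  exact ⟨⟨x, hx⟩, Subtype.ext hxz⟩

theorem exists_kerMap {Γ : Type v} [Group Γ] (σ : Γ →* Q) (hσ : Cfsg.IsStemExtension σ) :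
    ∃ π : M0 Q →* σ.ker, Function.Surjective π := by
  obtain ⟨f, hf⟩ := exists_lift σ hσ.1 hσ.2.1
  exact ⟨kerMap σ f hf, kerMap_surjective σ hσ f hf⟩

section Finite

variable [Finite Q]

instance finiteCommutatorSet : Finite (commutatorSet (Univ Q)) := by
  refine Set.finite_coe_iff.2 ((Set.finite_range fun p : Q × Q => ⁅sec p.1, sec p.2⁆).subset ?_)
  rintro _ ⟨a, b, rfl⟩
  exact ⟨(proj Q a, proj Q b), commutatorElement_eq_of_eq (proj Q) ker_proj_le_center
    (by simp) (by simp)⟩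

instance finiteM0 : Finite (M0 Q) :=
  Finite.of_injective (Subgroup.inclusion (inf_le_right : M0 Q ≤ commutator (Univ Q)))
    (Subgroup.inclusion_injective _)

end Finite

/-- The exponent-sum homomorphism. -/
noncomputable def expSum (Q : Type u) [Group Q] : Univ Q →* Multiplicative (Q →₀ ℤ) :=
  QuotientGroup.lift (rel Q) (FreeGroup.lift fun q => Multiplicative.ofAdd (Finsupp.single q 1))
    (by
      rw [rel, Subgroup.commutator_le]
      intro r _ x _
      rw [MonoidHom.mem_ker, map_commutatorElement, commutatorElement_eq_one_iff_mul_comm]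
      exact mul_comm _ _)

theorem expSum_ker : (expSum Q).ker = commutator (Univ Q) := by
  refine le_antisymm (fun x hx => ?_) (Abelianization.commutator_subset_ker _)
  let g : (Q →₀ ℤ) →+ Additive (Abelianization (Univ Q)) :=
    Finsupp.liftAddHom fun q => zmultiplesHom _ (Additive.ofMul (Abelianization.of (sec q)))
  have h : (AddMonoidHom.toMultiplicativeLeft g).comp (expSum Q) = Abelianization.of :=
    univ_hom_ext fun q => by simp [g, expSum, sec]
  have := DFunLike.congr_fun h x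
  simp only [MonoidHom.comp_apply, MonoidHom.mem_ker.1 hx, map_one] at this
  rw [← Abelianization.ker_of (Univ Q)]
  exact this.symm

theorem exists_complement_le [Finite Q] {Γ : Type v} [Group Γ] (f : Univ Q →* Γ)
    (hf : (proj Q).ker.map f ≤ (M0 Q).map f) :
    ∃ C : Subgroup (Univ Q), C ≤ (proj Q).ker ∧ C ⊓ commutator (Univ Q) = ⊥ ∧
      (proj Q).ker ≤ C ⊔ M0 Q ∧ C ≤ f.ker := by
  classical
  let L : Submodule ℤ (Q →₀ ℤ) :=
    AddSubgroup.toIntSubmodule (Subgroup.toAddSubgroup' ((proj Q).ker.map (expSum Q)))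
  have : Module.IsTorsionFree ℤ L := inferInstance
  have : Module.Free ℤ L := Module.free_of_finite_type_torsion_free'
  let b := Module.Free.chooseBasis ℤ L
  have hb : ∀ i, ∃ x : (proj Q).ker,
      expSum Q x = Multiplicative.ofAdd ((b i : L) : Q →₀ ℤ) ∧ f x = 1 := by
    intro i
    obtain ⟨x, hx, he⟩ := (b i).2
    obtain ⟨m, hm, hmx⟩ := hf (Subgroup.mem_map_of_mem f hx)
    refine ⟨⟨x * m⁻¹, (proj Q).ker.mul_mem hx ((proj Q).ker.inv_mem hm.1)⟩, ?_, ?_⟩
    · have hm' : expSum Q m = 1 := by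
        rw [← MonoidHom.mem_ker, expSum_ker]; exact hm.2
      show expSum Q (x * m⁻¹) = _
      rw [map_mul, map_inv, hm', inv_one, mul_one]
      exact he
    · show f (x * m⁻¹) = 1
      rw [map_mul, map_inv, hmx, mul_inv_cancel]
  choose x hx hxf using hb
  open scoped IsMulCommutative in
  let s : L →+ Additive (proj Q).ker :=
    (b.constr ℤ fun i => Additive.ofMul (x i)).toAddMonoidHom
  let ψ : Additive (proj Q).ker →+ (Q →₀ ℤ) :=
    MonoidHom.toAdditiveLeft ((expSum Q).comp (proj Q).ker.subtype)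
  have hψ : ∀ l : L, ψ (s l) = (l : Q →₀ ℤ) := by
    intro l
    have : (ψ.comp s).toIntLinearMap = L.subtype := b.ext fun i => by
      simp [ψ, s, hx]
    exact LinearMap.congr_fun this l
  have hsf : ∀ l : L, f ((Additive.toMul (s l) : (proj Q).ker) : Univ Q) = 1 := by
    intro l
    have hmem : l ∈ Submodule.span ℤ (Set.range b) := by rw [b.span_eq]; trivial
    induction hmem using Submodule.span_induction with
    | mem y hy =>
      obtain ⟨i, rfl⟩ := hy
      simp [s, hxf]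
    | zero => simp
    | add y z _ _ hy hz => simp [hy, hz]
    | smul k y _ hy => simp [map_zsmul, hy]
  refine ⟨(AddMonoidHom.toMultiplicativeLeft s).range.map (proj Q).ker.subtype,
    Subgroup.map_subtype_le _, ?_, ?_, ?_⟩
  · rw [eq_bot_iff]
    rintro _ ⟨⟨_, ⟨l, rfl⟩, rfl⟩, hc⟩
    rw [← expSum_ker] at hc
    have h0 : ψ (s (Multiplicative.toAdd l)) = 0 := hc
    rw [hψ] at h0
    have hl : l = 1 := Subtype.ext h0
    simp [hl]
  · intro r hr
    let c : (proj Q).ker := AddMonoidHom.toMultiplicativeLeft s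
      (Multiplicative.ofAdd (⟨Multiplicative.toAdd (expSum Q r), ⟨r, hr, rfl⟩⟩ : L))
    have hc : expSum Q (c : Univ Q) = expSum Q r := hψ _
    have h2 : (c : Univ Q)⁻¹ * r ∈ M0 Q := by
      refine ⟨(proj Q).ker.mul_mem ((proj Q).ker.inv_mem c.2) hr, ?_⟩
      rw [← expSum_ker]
      show expSum Q _ = 1
      rw [map_mul, map_inv, hc, inv_mul_cancel]
    have h1 : (c : Univ Q) ∈ _ := Subgroup.mem_map_of_mem (proj Q).ker.subtype
      (MonoidHom.mem_range.2 ⟨_, rfl⟩ : c ∈ (AddMonoidHom.toMultiplicativeLeft s).range)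
    simpa using Subgroup.mul_mem_sup h1 h2
  · rintro _ ⟨_, ⟨l, rfl⟩, rfl⟩
    exact hsf (Multiplicative.toAdd l)

theorem exists_complement [Finite Q] :
    ∃ C : Subgroup (Univ Q), C ≤ (proj Q).ker ∧ C ⊓ commutator (Univ Q) = ⊥ ∧
      (proj Q).ker ≤ C ⊔ M0 Q := by
  obtain ⟨C, h1, h2, h3, -⟩ := exists_complement_le (Q := Q) (1 : Univ Q →* Univ Q)
    (by rintro _ ⟨r, -, rfl⟩; exact ⟨1, one_mem _, by simp⟩)
  exact ⟨C, h1, h2, h3⟩

/-- A Schur cover exists: a finite stem extension onto whose kernel `M0 Q` maps bijectively. -/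
theorem exists_cover [Finite Q] :
    ∃ (Γ : Type u) (_ : Group Γ) (_ : Finite Γ) (σ : Γ →* Q) (f : Univ Q →* Γ)
      (hf : σ.comp f = proj Q),
      Cfsg.IsStemExtension σ ∧ Function.Bijective (kerMap σ f hf) := by
  obtain ⟨C, hC, hCD, hsup⟩ := exists_complement (Q := Q)
  have hN : C.Normal := ⟨fun c hc g => by
    rw [Subgroup.mem_center_iff.1 (ker_proj_le_center (hC hc)) g]; simpa using hc⟩
  let σ : Univ Q ⧸ C →* Q := QuotientGroup.lift C (proj Q) hC
  let f := QuotientGroup.mk' C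
  have hf : σ.comp f = proj Q := by ext x; rfl
  have hker : σ.ker = (proj Q).ker.map f := QuotientGroup.ker_lift _ _ _
  have hst : Cfsg.IsStemExtension σ := by
    refine ⟨fun q => ⟨f (sec q), proj_sec q⟩, ?_, ?_⟩
    · rw [hker]
      rintro _ ⟨r, hr, rfl⟩
      refine Subgroup.mem_center_iff.2 fun y => ?_
      obtain ⟨y, rfl⟩ := QuotientGroup.mk'_surjective C y
      rw [← map_mul, ← map_mul, Subgroup.mem_center_iff.1 (ker_proj_le_center hr)]
    · rw [hker]
      refine (Subgroup.map_mono hsup).trans ?_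
      rw [Subgroup.map_sup, sup_le_iff]
      refine ⟨?_, ?_⟩
      · rintro _ ⟨c, hc, rfl⟩
        have : f c = 1 := (QuotientGroup.eq_one_iff _).2 hc
        simp [this]
      · refine (Subgroup.map_mono inf_le_right).trans ?_
        rw [map_commutator_eq]
        exact Subgroup.commutator_mono le_top le_top
  have hfin : Finite (Univ Q ⧸ C) := by
    refine Finite.of_surjective (fun p : Q × M0 Q => f (sec p.1 * p.2)) fun y => ?_
    obtain ⟨x, rfl⟩ := QuotientGroup.mk'_surjective C y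
    have hr : (sec (proj Q x))⁻¹ * x ∈ (proj Q).ker := by simp
    obtain ⟨c, hc, m, hm, hcm⟩ := Subgroup.mem_sup_of_normal_left.1 (hsup hr)
    refine ⟨(proj Q x, ⟨m, hm⟩), ?_⟩
    have h1 : f c = 1 := (QuotientGroup.eq_one_iff _).2 hc
    have h2 := congrArg f hcm
    rw [map_mul, h1, one_mul, map_mul, map_inv] at h2
    show f (sec (proj Q x) * m) = f x
    rw [map_mul, h2, mul_inv_cancel_left]
  refine ⟨Univ Q ⧸ C, inferInstance, hfin, σ, f, hf, hst, ?_, kerMap_surjective σ hst f hf⟩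
  rw [← MonoidHom.ker_eq_bot_iff, eq_bot_iff]
  intro x hx
  have h1 : (x : Univ Q) ∈ C := (QuotientGroup.eq_one_iff _).1 (Subtype.ext_iff.1 hx)
  have : (x : Univ Q) ∈ C ⊓ commutator (Univ Q) := ⟨h1, x.2.2⟩
  rw [hCD] at this
  exact Subtype.ext this

/-- `HasSchurMultiplier Q A` says that `A` is isomorphic to `M0 Q`. -/
theorem hasSchurMultiplier_iff [Finite Q] {A : Type v} [CommGroup A] :
    Cfsg.HasSchurMultiplier Q A ↔ Nonempty (M0 Q ≃* A) := by
  obtain ⟨Γ₀, i₁, i₂, σ₀, f₀, hf₀, hσ₀, hb⟩ := exists_cover (Q := Q)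
  constructor
  · rintro ⟨⟨Γ, j₁, j₂, σ, hσ, ⟨e⟩⟩, h⟩
    have : Finite A := Finite.of_equiv _ e.toEquiv
    obtain ⟨π, hπ⟩ := exists_kerMap σ hσ
    obtain ⟨ρ, hρ⟩ := h Γ₀ σ₀ hσ₀
    have h1 : Nat.card A ≤ Nat.card (M0 Q) :=
      Nat.card_le_card_of_surjective (e.toMonoidHom.comp π) (e.surjective.comp hπ)
    have h2 : Nat.card (M0 Q) ≤ Nat.card A := by
      rw [Nat.card_congr (Equiv.ofBijective _ hb)]
      exact Nat.card_le_card_of_surjective ρ hρ
    exact ⟨MulEquiv.ofBijective (e.toMonoidHom.comp π)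
      ((Nat.bijective_iff_surjective_and_card _).2 ⟨e.surjective.comp hπ, le_antisymm h2 h1⟩)⟩
  · rintro ⟨e⟩
    refine ⟨⟨Γ₀, i₁, i₂, σ₀, hσ₀, ⟨(MulEquiv.ofBijective _ hb).symm.trans e⟩⟩, ?_⟩
    intro Γ _ _ σ hσ
    obtain ⟨π, hπ⟩ := exists_kerMap σ hσ
    exact ⟨π.comp e.symm.toMonoidHom, hπ.comp e.symm.surjective⟩

/-- A finite group has a multiplier. -/
theorem hasSchurMultiplier_M0 [Finite Q] : Cfsg.HasSchurMultiplier Q (M0 Q) :=
  hasSchurMultiplier_iff.2 ⟨MulEquiv.refl _⟩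

theorem finite_of_hasSchurMultiplier [Finite Q] {A : Type v} [CommGroup A]
    (hA : Cfsg.HasSchurMultiplier Q A) : Finite A :=
  let ⟨e⟩ := hasSchurMultiplier_iff.1 hA; Finite.of_equiv _ e.toEquiv

theorem hasCyclicSchurMultiplier_iff [Finite Q] {n : ℕ} [NeZero n] :
    Cfsg.HasCyclicSchurMultiplier Q n ↔ IsCyclic (M0 Q) ∧ Nat.card (M0 Q) = n := by
  rw [Cfsg.HasCyclicSchurMultiplier, hasSchurMultiplier_iff]
  constructor
  · rintro ⟨e⟩
    exact ⟨isCyclic_of_surjective e.symm e.symm.surjective, by simp [Nat.card_congr e.toEquiv]⟩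
  · rintro ⟨h1, h2⟩
    exact ⟨(zmodCyclicMulEquiv h1).symm.trans (AddEquiv.toMultiplicative
      (ZMod.ringEquivCongr h2).toAddEquiv)⟩

theorem hasCyclicSchurMultiplier_one_iff [Finite Q] :
    Cfsg.HasCyclicSchurMultiplier Q 1 ↔ M0 Q = ⊥ := by
  rw [hasCyclicSchurMultiplier_iff]
  constructor
  · exact fun h => Subgroup.card_eq_one.1 h.2
  · intro h
    have hc := Subgroup.card_eq_one.2 h
    have : Subsingleton (M0 Q) := (Nat.card_eq_one_iff_unique.1 hc).1
    exact ⟨inferInstance, hc⟩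

/-- A stem extension is a Schur cover exactly when the lift is injective on `M0 Q`. -/
theorem kerMap_bijective_of_equiv [Finite Q] {A : Type v} [CommGroup A]
    (hA : Cfsg.HasSchurMultiplier Q A) {Γ : Type w} [Group Γ] (σ : Γ →* Q)
    (hσ : Cfsg.IsStemExtension σ) (hk : Nonempty (σ.ker ≃* A))
    (f : Univ Q →* Γ) (hf : σ.comp f = proj Q) : Function.Bijective (kerMap σ f hf) := by
  obtain ⟨e⟩ := hasSchurMultiplier_iff.1 hA
  obtain ⟨e'⟩ := hk
  exact (Nat.bijective_iff_surjective_and_card _).2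
    ⟨kerMap_surjective σ hσ f hf, Nat.card_congr (e.trans e'.symm).toEquiv⟩

end CfsgLib.SchurCover
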